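import Mathlib

/-! Lifting a finite separable residue extension at the minimal prime to a finite étale algebra. -/

universe u

open Polynomial

namespace Groth.Agent.FlatMorCompIrr

set_option backward.isDefEq.respectTransparency false

theorem etale_adjoinRoot {R : Type u} [CommRing R] (F : R[X]) (hF : F.Monic) (hs : F.Separable) :
    Algebra.Etale R (AdjoinRoot F) := by
  obtain ⟨a, b, hab⟩ := hs
  let P : StandardEtalePair R := ⟨F, hF, 1, ⟨b, a, 0, by rw [pow_zero]; linear_combination hab⟩⟩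
  have hx : P.HasMap (AdjoinRoot.root F) := ⟨by simp [P], by simp [P]⟩
  refine Algebra.Etale.of_equiv (A := P.Ring) (AlgEquiv.ofAlgHom (P.lift _ hx)
    (AdjoinRoot.liftAlgHom F (Algebra.ofId R P.Ring) P.X P.hasMap_X.1) ?_ ?_)
  · exact AdjoinRoot.algHom_ext (by simp)
  · exact P.hom_ext (by simp)

variable {A : Type u} [CommRing A] {k : Type u} [Field k] [Algebra A k]

theorem exists_common_denominator
    (hfrac : ∀ c : k, ∃ a r : A, algebraMap A k r ≠ 0 ∧ c * algebraMap A k r = algebraMap A k a)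
    (s : Finset k) :
    ∃ r : A, algebraMap A k r ≠ 0 ∧ ∀ c ∈ s, ∃ a : A, c * algebraMap A k r = algebraMap A k a := by
  classical
  induction s using Finset.induction with
  | empty => exact ⟨1, by simp, by simp⟩
  | insert c s hc ih =>
    obtain ⟨r, hr, hs⟩ := ih
    obtain ⟨a, r', hr', ha⟩ := hfrac c
    refine ⟨r * r', by simpa using mul_ne_zero hr hr', fun d hd => ?_⟩
    rcases Finset.mem_insert.mp hd with rfl | hd
    · exact ⟨a * r, by rw [map_mul, map_mul, ← ha]; ring⟩
    · obtain ⟨b, hb⟩ := hs d hd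
      exact ⟨b * r', by rw [map_mul, map_mul, ← hb]; ring⟩

theorem exists_finite_etale_lift
    (hker : RingHom.ker (algebraMap A k) ≤ nilradical A)
    (hfrac : ∀ c : k, ∃ a r : A, algebraMap A k r ≠ 0 ∧ c * algebraMap A k r = algebraMap A k a)
    (k' : Type u) [Field k'] [Algebra k k'] [FiniteDimensional k k'] [Algebra.IsSeparable k k'] :
    ∃ (r : A) (B : Type u) (_ : CommRing B) (_ : Algebra (Localization.Away r) B) (ψ : B →+* k'),
      Module.Finite (Localization.Away r) B ∧ Algebra.Etale (Localization.Away r) B ∧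
      Function.Surjective (PrimeSpectrum.comap (algebraMap (Localization.Away r) B)) ∧
      (ψ.comp ((algebraMap (Localization.Away r) B).comp (algebraMap A (Localization.Away r))) =
        (algebraMap k k').comp (algebraMap A k)) ∧
      RingHom.ker ψ ≤ nilradical B ∧
      ∀ c : k', ∃ b s : B, ψ s ≠ 0 ∧ c * ψ s = ψ b := by
  classical
  obtain ⟨α, hα⟩ := Field.exists_primitive_element k k'
  set m := minpoly k α with hm
  have hαint : IsIntegral k α := Algebra.IsIntegral.isIntegral α
  obtain ⟨a, b, hab⟩ := (Algebra.IsSeparable.isSeparable k α : IsSeparable k α)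
  obtain ⟨r, hr, hcoef⟩ := exists_common_denominator hfrac (m.coeffs ∪ a.coeffs ∪ b.coeffs)
  let A₁ := Localization.Away r
  let χ : A₁ →+* k := IsLocalization.Away.lift r (g := algebraMap A k) (isUnit_iff_ne_zero.mpr hr)
  have hχ : ∀ x, χ (algebraMap A A₁ x) = algebraMap A k x := fun x =>
    IsLocalization.Away.lift_eq _ _ x
  have hχker : ∀ x, χ x = 0 → IsNilpotent x := by
    intro x hx
    obtain ⟨n, c, hc⟩ := IsLocalization.Away.surj r x
    have h1 : algebraMap A k c = 0 := by rw [← hχ, ← hc, map_mul, hx, zero_mul]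
    have h2 : IsNilpotent (algebraMap A A₁ c) := (mem_nilradical.mp (hker h1)).map _
    rw [← hc] at h2
    have hu : IsUnit (algebraMap A A₁ r ^ n) := (IsLocalization.Away.algebraMap_isUnit r).pow n
    obtain ⟨j, hj⟩ := h2
    exact ⟨j, (hu.pow j).mul_left_eq_zero.mp (by rw [← mul_pow]; exact hj)⟩
  have hrange : ∀ c ∈ m.coeffs ∪ a.coeffs ∪ b.coeffs, ∃ x, χ x = c := by
    intro c hc
    obtain ⟨x, hx⟩ := hcoef c hc
    refine ⟨algebraMap A A₁ x * IsLocalization.Away.invSelf r, ?_⟩
    have h1 : χ (algebraMap A A₁ r) * χ (IsLocalization.Away.invSelf r) = 1 := by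
      rw [← map_mul, IsLocalization.Away.mul_invSelf, map_one]
    rw [hχ] at h1
    rw [map_mul, hχ, ← hx, mul_assoc, h1, mul_one]
  have hlifts : ∀ p : k[X], p.coeffs ⊆ m.coeffs ∪ a.coeffs ∪ b.coeffs → p ∈ Polynomial.lifts χ := by
    intro p hp
    rw [Polynomial.lifts_iff_coeff_lifts]
    intro n
    by_cases h0 : p.coeff n = 0
    · exact ⟨0, by rw [map_zero, h0]⟩
    · exact hrange _ (hp (Polynomial.coeff_mem_coeffs h0))
  obtain ⟨F, hF, hdeg, hFm⟩ := Polynomial.lifts_and_natDegree_eq_and_monic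
    (hlifts m (fun c hc => Finset.mem_union_left _ (Finset.mem_union_left _ hc)))
    (minpoly.monic hαint)
  obtain ⟨a', ha'⟩ := Polynomial.mem_lifts a |>.mp
    (hlifts a (fun c hc => Finset.mem_union_left _ (Finset.mem_union_right _ hc)))
  obtain ⟨b', hb'⟩ := Polynomial.mem_lifts b |>.mp
    (hlifts b (fun c hc => Finset.mem_union_right _ hc))
  have hkerpoly : ∀ p : A₁[X], p.map χ = 0 → IsNilpotent p := fun p hp =>
    Polynomial.isNilpotent_iff.mpr fun i => hχker _ (by rw [← Polynomial.coeff_map, hp, coeff_zero])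
  have hsep : F.Separable := by
    have hnil : IsNilpotent (a' * F + b' * derivative F - 1) := hkerpoly _ (by
      rw [Polynomial.map_sub, Polynomial.map_add, Polynomial.map_mul, Polynomial.map_mul,
        ← derivative_map, ha', hb', hF, Polynomial.map_one]
      exact sub_eq_zero.mpr hab)
    obtain ⟨u, hu⟩ := hnil.isUnit_one_add
    refine ⟨(↑u⁻¹ : A₁[X]) * a', (↑u⁻¹ : A₁[X]) * b', ?_⟩
    rw [mul_assoc, mul_assoc, ← mul_add,
      show a' * F + b' * derivative F = (u : A₁[X]) by rw [hu]; ring]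
    exact u.inv_mul
  let B := AdjoinRoot F
  let ψ : B →+* k' := AdjoinRoot.lift ((algebraMap k k').comp χ) α (by
    rw [← Polynomial.eval₂_map, hF, ← aeval_def, hm, minpoly.aeval])
  have hψ : ∀ G : A₁[X], ψ (AdjoinRoot.mk F G) = aeval α (G.map χ) := fun G => by
    rw [aeval_def, Polynomial.eval₂_map]; exact AdjoinRoot.lift_mk _ G
  have hψker : RingHom.ker ψ ≤ nilradical B := by
    intro x hx
    obtain ⟨G, rfl⟩ := AdjoinRoot.mk_surjective x
    rw [RingHom.mem_ker, hψ] at hx
    obtain ⟨h, hh⟩ := minpoly.dvd k α hx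
    have h0 : (G %ₘ F).map χ = 0 := by
      rw [Polynomial.map_modByMonic _ hFm, hF, hh, hm]
      exact (Polynomial.modByMonic_eq_zero_iff_dvd (minpoly.monic hαint)).mpr (dvd_mul_right _ _)
    have h1 : AdjoinRoot.mk F G = AdjoinRoot.mk F (G %ₘ F) := by
      rw [AdjoinRoot.mk_eq_mk]
      exact ⟨G /ₘ F, by linear_combination -(Polynomial.modByMonic_add_div G F)⟩
    rw [mem_nilradical, h1]
    exact (hkerpoly _ h0).map _
  refine ⟨r, B, inferInstance, inferInstance, ψ, hFm.finite_adjoinRoot,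
    etale_adjoinRoot F hFm hsep, ?_, ?_, hψker, ?_⟩
  · haveI : Module.Finite A₁ B := hFm.finite_adjoinRoot
    haveI : Nontrivial A₁ := χ.domain_nontrivial
    have hinj : Function.Injective (algebraMap A₁ B) := by
      refine (injective_iff_map_eq_zero _).2 fun x hx => ?_
      by_contra h
      exact hFm.not_dvd_of_natDegree_lt (C_ne_zero.2 h)
        (by rw [natDegree_C, hdeg]; exact minpoly.natDegree_pos hαint)
        (AdjoinRoot.mk_eq_zero.1 hx)
    haveI : FaithfulSMul A₁ B := (faithfulSMul_iff_algebraMap_injective _ _).mpr hinj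
    exact Algebra.IsIntegral.comap_surjective _ _
  · ext x
    show ψ (AdjoinRoot.of F (algebraMap A A₁ x)) = _
    rw [AdjoinRoot.lift_of]
    simp [hχ]
  · intro c
    have hc : c ∈ Algebra.adjoin k {α} := by
      rw [← IntermediateField.adjoin_simple_toSubalgebra_of_isAlgebraic hαint.isAlgebraic, hα]
      trivial
    rw [Algebra.adjoin_singleton_eq_range_aeval] at hc
    obtain ⟨p, rfl⟩ := hc
    obtain ⟨t, ht, htc⟩ := exists_common_denominator hfrac p.coeffs
    have hl : Polynomial.C (algebraMap A k t) * p ∈ Polynomial.lifts χ := by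
      rw [Polynomial.lifts_iff_coeff_lifts]
      intro n
      rw [coeff_C_mul]
      by_cases h0 : p.coeff n = 0
      · exact ⟨0, by rw [map_zero, h0, mul_zero]⟩
      · obtain ⟨x, hx⟩ := htc _ (Polynomial.coeff_mem_coeffs h0)
        exact ⟨algebraMap A A₁ x, by rw [hχ, ← hx, mul_comm]⟩
    obtain ⟨G, hG⟩ := Polynomial.mem_lifts _ |>.mp hl
    refine ⟨AdjoinRoot.mk F G, AdjoinRoot.of F (algebraMap A A₁ t), ?_, ?_⟩
    · rw [AdjoinRoot.lift_of, RingHom.comp_apply, hχ]
      exact (_root_.map_ne_zero _).mpr ht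
    · rw [AdjoinRoot.lift_of, hψ, hG, map_mul, aeval_C, RingHom.comp_apply, hχ]
      exact mul_comm _ _

end Groth.Agent.FlatMorCompIrr
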