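import Groth.Agent.FlatMorCompIrr.EtaleLift
import Groth.Agent.FlatMorGeomIrr.Components
import Groth.Agent.S1654

/-! Geometrically irreducible components of the generic fibre after a finite étale base change. -/

universe u

open AlgebraicGeometry CategoryTheory Limits TopologicalSpace
open Groth.Agent.FlatMorGeomIrr

namespace Groth.Agent.FlatMorCompIrr

set_option backward.isDefEq.respectTransparency false

theorem geometricallyIrreducible_components_transfer {F P S S' : Scheme.{u}} (h : F ≅ P)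
    (q : F ⟶ S') (p : P ⟶ S) (e : S' ≅ S) (hw : h.hom ≫ p = q ≫ e.hom)
    (hT : ∀ (T : Set P) (hT : T ∈ irreducibleComponents ↥P),
      GeometricallyIrreducible (redι (isClosed_of_mem_irreducibleComponents T hT) ≫ p))
    (Z : Set F) (hZ : Z ∈ irreducibleComponents ↥F) :
    GeometricallyIrreducible (redι (isClosed_of_mem_irreducibleComponents Z hZ) ≫ q) := by
  let φ := h.hom.homeomorph
  have hT' : φ '' Z ∈ irreducibleComponents ↥P := by
    refine ⟨hZ.1.image _ φ.continuous.continuousOn, fun T hTi hle => ?_⟩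
    have h2 := hZ.2 (hTi.image _ φ.symm.continuous.continuousOn) (fun z hz =>
      ⟨φ z, hle ⟨z, hz, rfl⟩, φ.symm_apply_apply z⟩)
    intro t ht
    exact ⟨φ.symm t, h2 ⟨t, ht, rfl⟩, φ.apply_symm_apply t⟩
  have hi : GeometricallyIrreducible
      ((redι (isClosed_of_mem_irreducibleComponents Z hZ) ≫ h.hom) ≫ p) := by
    refine ⟨geometrically_iff_of_isClosedUnderIsomorphisms.2 fun K _ s => ?_⟩
    rw [irreducibleSpace_pullback_closed_iff]
    have hK := geometrically_iff_of_isClosedUnderIsomorphisms.1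
      (hT _ hT').geometrically_irreducibleSpace K s
    rw [irreducibleSpace_pullback_closed_iff, range_redι] at hK
    rw [Scheme.Hom.comp_base, TopCat.coe_comp, Set.range_comp, range_redι]
    exact hK
  rw [Category.assoc, hw, ← Category.assoc] at hi
  exact (MorphismProperty.cancel_right_of_respectsIso @GeometricallyIrreducible _ e.hom).mp hi

/-- A point of a spectrum and a map to a field inducing an isomorphism on residue fields. -/
theorem exists_iso_fromSpecResidueField {B : CommRingCat.{u}} {K : Type u} [Field K] (ψ : B →+* K)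
    (hfrac : ∀ c : K, ∃ b s : B, ψ s ≠ 0 ∧ c * ψ s = ψ b) (q : Spec B)
    (hq : q.asIdeal = RingHom.ker ψ) :
    ∃ e : Spec ((Spec B).residueField q) ≅ Spec (CommRingCat.of K),
      (Spec B).fromSpecResidueField q = e.hom ≫ Spec.map (CommRingCat.ofHom ψ) := by
  let φ : q.asIdeal.ResidueField →+* K := Ideal.ResidueField.lift q.asIdeal ψ hq.le
    (fun x hx => isUnit_iff_ne_zero.mpr fun h0 => hx (by
      rw [SetLike.mem_coe, hq, RingHom.mem_ker]; exact h0))
  have hφ : ∀ x, φ (algebraMap B q.asIdeal.ResidueField x) = ψ x := fun x => by simp [φ]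
  have hbij : Function.Bijective φ := by
    refine ⟨φ.injective, fun c => ?_⟩
    obtain ⟨b, s, hs, hb⟩ := hfrac c
    refine ⟨algebraMap B _ b / algebraMap B _ s, ?_⟩
    rw [map_div₀, hφ, hφ, ← hb, mul_div_assoc, div_self hs, mul_one]
  let ε := (RingEquiv.ofBijective φ hbij).toCommRingCatIso
  refine ⟨asIso (Spec.map (Scheme.Spec.residueFieldIso B q).inv) ≪≫
    (asIso (Spec.map ε.hom)).symm, ?_⟩
  rw [← Scheme.Spec.map_residueFieldIso_inv_eq_fromSpecResidueField, Iso.trans_hom, Category.assoc]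
  congr 1
  rw [Iso.symm_hom, asIso_inv, IsIso.eq_inv_comp, ← Spec.map_comp]
  congr 1
  ext x
  exact hφ x

theorem components_geometricallyIrreducible_of_point {X : Scheme.{u}} {B : CommRingCat.{u}}
    (f : X ⟶ Spec B) {K : Type u} [Field K] (ψ : B →+* K)
    (hfrac : ∀ c : K, ∃ b s : B, ψ s ≠ 0 ∧ c * ψ s = ψ b)
    {P : Scheme.{u}} (j : P ⟶ X) (p : P ⟶ Spec (CommRingCat.of K))
    (hsq : IsPullback j p f (Spec.map (CommRingCat.ofHom ψ)))
    (hT : ∀ (T : Set P) (hT : T ∈ irreducibleComponents ↥P),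
      GeometricallyIrreducible (redι (isClosed_of_mem_irreducibleComponents T hT) ≫ p))
    (y : Spec B) (hy : y.asIdeal = RingHom.ker ψ) :
    ∀ (Z : Set ↥(f.fiber y)) (hZ : Z ∈ irreducibleComponents ↥(f.fiber y)),
      GeometricallyIrreducible
        (redι (isClosed_of_mem_irreducibleComponents Z hZ) ≫ f.fiberToSpecResidueField y) := by
  obtain ⟨e, he⟩ := exists_iso_fromSpecResidueField ψ hfrac y hy
  have sq : IsPullback j (p ≫ e.inv) f ((Spec B).fromSpecResidueField y) := by
    refine hsq.of_iso (Iso.refl _) (Iso.refl _) e.symm (Iso.refl _) (by simp) (by simp) (by simp) ?_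
    rw [he]; simp
  refine geometricallyIrreducible_components_transfer sq.isoPullback.symm
    (f.fiberToSpecResidueField y) p e ?_ hT
  rw [Iso.symm_hom, ← cancel_mono e.inv, Category.assoc, Category.assoc, Iso.hom_inv_id,
    Category.comp_id]
  exact sq.isoPullback_inv_snd

theorem exists_finite_etale_geometricallyIrreducible_components {X Y : Scheme.{u}} (f : X ⟶ Y)
    [IrreducibleSpace ↑Y] [LocallyOfFiniteType f] [QuasiCompact f] :
    ∃ (V : Y.Opens) (Y' : Scheme.{u}) (g : Y' ⟶ (V : Scheme.{u})) (hY' : IrreducibleSpace ↑Y'),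
      (V : Set ↑Y).Nonempty ∧ IsAffine Y' ∧ Surjective g ∧ IsFinite g ∧ Etale g ∧
      ∀ (Z : Set ↑((pullback.snd f (g ≫ V.ι)).fiber (genericPoint ↑Y')))
        (hZ : Z ∈ irreducibleComponents ↑((pullback.snd f (g ≫ V.ι)).fiber (genericPoint ↑Y'))),
        GeometricallyIrreducible ((Scheme.IdealSheafData.vanishingIdeal
          (⟨Z, isClosed_of_mem_irreducibleComponents Z hZ⟩ : TopologicalSpace.Closeds _)).subschemeι ≫
          (pullback.snd f (g ≫ V.ι)).fiberToSpecResidueField (genericPoint ↑Y')) := by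
  classical
  obtain ⟨_, ⟨U, hU, rfl⟩, hηU, -⟩ := Y.isBasis_affineOpens.exists_subset_of_mem_open
    (Set.mem_univ (genericPoint ↑Y)) isOpen_univ
  let A := Γ(Y, U)
  let η₀ : PrimeSpectrum A := hU.primeIdealOf ⟨genericPoint ↑Y, hηU⟩
  have hη₀ : η₀.asIdeal ≤ nilradical A := by
    rw [nilradical_eq_sInf]
    refine le_sInf fun J hJ => ?_
    refine (PrimeSpectrum.le_iff_specializes η₀ ⟨J, hJ⟩).mpr ?_
    rw [← hU.fromSpec.isOpenEmbedding.isInducing.specializes_iff, hU.fromSpec_primeIdealOf]
    exact genericPoint_specializes _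
  let k := η₀.asIdeal.ResidueField
  have hker : RingHom.ker (algebraMap A k) ≤ nilradical A := by
    rw [Ideal.ker_algebraMap_residueField]; exact hη₀
  have hfrac : ∀ c : k, ∃ a r : A, algebraMap A k r ≠ 0 ∧
      c * algebraMap A k r = algebraMap A k a := by
    intro c
    obtain ⟨⟨a, s, hs⟩, has⟩ := IsLocalization.surj (nonZeroDivisors (A ⧸ η₀.asIdeal)) c
    obtain ⟨a, rfl⟩ := Ideal.Quotient.mk_surjective a
    obtain ⟨s, rfl⟩ := Ideal.Quotient.mk_surjective s
    refine ⟨a, s, fun h0 => ?_, has⟩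
    rw [← RingHom.mem_ker, Ideal.ker_algebraMap_residueField] at h0
    exact nonZeroDivisors.ne_zero hs (Ideal.Quotient.eq_zero_iff_mem.mpr h0)
  let s₀ : Spec (CommRingCat.of k) ⟶ Y :=
    Spec.map (CommRingCat.ofHom (algebraMap A k)) ≫ hU.fromSpec
  let Xk := pullback f s₀
  letI : Xk.Over (Spec (CommRingCat.of k)) := ⟨pullback.snd f s₀⟩
  haveI : LocallyOfFiniteType (Xk ↘ Spec (CommRingCat.of k)) :=
    inferInstanceAs (LocallyOfFiniteType (pullback.snd f s₀))
  have hfin : (irreducibleComponents ↥Xk).Finite := by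
    haveI : IsLocallyNoetherian Xk := LocallyOfFiniteType.isLocallyNoetherian (pullback.snd f s₀)
    haveI : CompactSpace Xk := QuasiCompact.compactSpace_of_compactSpace (pullback.snd f s₀)
    haveI : IsNoetherian Xk := {}
    exact NoetherianSpace.finite_irreducibleComponents
  obtain ⟨k', _, _, _, _, hk'⟩ := S1654.result k Xk hfin
  obtain ⟨r, B, _, _, ψ, hBfin, hBet, hBsurj, hψ, hψker, hψfrac⟩ :=
    exists_finite_etale_lift hker hfrac k'
  let A₁ := Localization.Away r
  haveI : IsOpenImmersion (Spec.map (CommRingCat.ofHom (algebraMap A A₁))) :=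
    IsOpenImmersion.of_isLocalization r
  let a : Spec (CommRingCat.of A₁) ⟶ Y :=
    Spec.map (CommRingCat.ofHom (algebraMap A A₁)) ≫ hU.fromSpec
  let g : Spec (CommRingCat.of B) ⟶ (a.opensRange : Scheme.{u}) :=
    Spec.map (CommRingCat.ofHom (algebraMap A₁ B)) ≫ a.isoOpensRange.hom
  let q : Spec (CommRingCat.of B) :=
    (⟨RingHom.ker ψ, RingHom.ker_isPrime ψ⟩ : PrimeSpectrum B)
  have hqgen : IsGenericPoint q (Set.univ : Set ↥(Spec (CommRingCat.of B))) := by
    rw [IsGenericPoint, Set.eq_univ_iff_forall]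
    intro x
    refine specializes_iff_mem_closure.mp ((PrimeSpectrum.le_iff_specializes q x).mp ?_)
    exact hψker.trans (nilradical_le_prime x.asIdeal)
  haveI hirr : IrreducibleSpace ↥(Spec (CommRingCat.of B)) := by
    haveI : Nonempty ↥(Spec (CommRingCat.of B)) := ⟨q⟩
    exact { isPreirreducible_univ := hqgen.isIrreducible.2, toNonempty := ⟨q⟩ }
  refine ⟨a.opensRange, Spec (CommRingCat.of B), g, hirr,
    ⟨_, Spec.map (CommRingCat.ofHom (algebraMap A₁ B)) q, rfl⟩,
    inferInstance, ?_, ?_, ?_, ?_⟩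
  · haveI : Surjective (Spec.map (CommRingCat.ofHom (algebraMap A₁ B))) := ⟨hBsurj⟩
    infer_instance
  · haveI : IsFinite (Spec.map (CommRingCat.ofHom (algebraMap A₁ B))) :=
      (IsFinite.SpecMap_iff _).mpr (RingHom.finite_algebraMap.mpr hBfin)
    infer_instance
  · haveI : Etale (Spec.map (CommRingCat.ofHom (algebraMap A₁ B))) :=
      (HasRingHomProperty.Spec_iff (P := @Etale)).mpr (RingHom.etale_algebraMap.mpr hBet)
    infer_instance
  · have hgι : g ≫ a.opensRange.ι = Spec.map (CommRingCat.ofHom (algebraMap A₁ B)) ≫ a := by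
      simp [g]
    have hgen : genericPoint ↥(Spec (CommRingCat.of B)) = q :=
      (genericPoint_spec _).eq hqgen
    let sk : Spec (CommRingCat.of k') ⟶ Spec (CommRingCat.of k) :=
      Spec.map (CommRingCat.ofHom (algebraMap k k'))
    have hbase : sk ≫ s₀ = Spec.map (CommRingCat.ofHom ψ) ≫ g ≫ a.opensRange.ι := by
      rw [hgι]
      show _ ≫ _ ≫ hU.fromSpec = _ ≫ _ ≫ _ ≫ hU.fromSpec
      simp only [sk, ← Category.assoc, ← Spec.map_comp, ← CommRingCat.ofHom_comp]
      exact congrArg (fun φ => Spec.map (CommRingCat.ofHom φ) ≫ hU.fromSpec) hψ.symm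
    have big : IsPullback (pullback.fst (pullback.snd f s₀) sk ≫ pullback.fst f s₀)
        (pullback.snd (pullback.snd f s₀) sk) f (sk ≫ s₀) :=
      (IsPullback.of_hasPullback _ _).paste_horiz (IsPullback.of_hasPullback _ _)
    rw [hbase] at big
    let j : pullback (pullback.snd f s₀) sk ⟶ pullback f (g ≫ a.opensRange.ι) :=
      pullback.lift (pullback.fst (pullback.snd f s₀) sk ≫ pullback.fst f s₀)
        (pullback.snd (pullback.snd f s₀) sk ≫ Spec.map (CommRingCat.ofHom ψ))
        (by rw [big.w]; simp only [g, Category.assoc])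
    have hsq : IsPullback j (pullback.snd (pullback.snd f s₀) sk)
        (pullback.snd f (g ≫ a.opensRange.ι)) (Spec.map (CommRingCat.ofHom ψ)) := by
      refine IsPullback.of_right ?_ (pullback.lift_snd _ _ _) (IsPullback.of_hasPullback _ _)
      rw [pullback.lift_fst]
      exact big
    exact components_geometricallyIrreducible_of_point (pullback.snd f (g ≫ a.opensRange.ι)) ψ
      hψfrac j _ hsq hk' _ (by rw [hgen])

end Groth.Agent.FlatMorCompIrr
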